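import Groth.Agent.Lib.EtQuotH28.Main
import Groth.Agent.Lib.Hens.Reduced
import Mathlib.RingTheory.Kaehler.Basic
import Mathlib.RingTheory.Smooth.Basic
import Mathlib.RingTheory.TensorProduct.Maps
import Mathlib.LinearAlgebra.TensorProduct.Tower

/-!
# Tubular neighbourhoods: the algebra

For a map `ρ : R → B` to a formally smooth algebra and a section `s` of `B ⊗ R → Ω[B⁄k]`, the quotient of
`B ⊗ R` by the graph functions of the image of `s` is étale over `R` at the graph point.
-/

open TensorProduct KaehlerDifferential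

universe u

namespace Groth.Agent.EqTub28

set_option linter.unusedSectionVars false

variable {k : Type u} [Field k] {R : Type u} [CommRing R] [Algebra k R] {B : Type u} [CommRing B] [Algebra k B]

/-- A derivation at a point, as a functional on differentials. -/
lemma exists_lift_derivation {V : Type u} [AddCommGroup V] [Module k V] (xB : B →ₐ[k] k) (δ : B →ₗ[k] V)
    (hδ : ∀ b c, δ (b * c) = xB b • δ c + xB c • δ b) :
    ∃ E : Ω[B⁄k] →+ V, (∀ (b : B) w, E (b • w) = xB b • E w) ∧ ∀ b, E (D k B b) = δ b := by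
  letI : Module B V := Module.compHom V xB.toRingHom
  haveI : IsScalarTower k B V := IsScalarTower.of_algebraMap_smul fun c v => by
    show xB (algebraMap k B c) • v = c • v
    rw [AlgHom.commutes]; rfl
  let δ' : Derivation k B V := Derivation.mk' δ hδ
  exact ⟨δ'.liftKaehlerDifferential.toAddMonoidHom, fun b w => δ'.liftKaehlerDifferential.map_smul b w,
    fun b => δ'.liftKaehlerDifferential_comp_D b⟩

variable (ρ : R →ₐ[k] B)

/-- The graph map. -/
noncomputable def gr : B ⊗[k] R →ₐ[B] B :=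
  Algebra.TensorProduct.lift (AlgHom.id B B) ρ fun _ _ => Commute.all _ _

@[simp] lemma gr_tmul (b : B) (r : R) : gr ρ (b ⊗ₜ[k] r) = b * ρ r := by simp [gr]

/-- The projection onto the ideal of the graph. -/
noncomputable def psi : B ⊗[k] R →ₗ[B] B ⊗[k] R :=
  LinearMap.id - (Algebra.linearMap B (B ⊗[k] R)).comp (gr ρ).toLinearMap

lemma psi_tmul (b : B) (r : R) : psi ρ (b ⊗ₜ[k] r) = b ⊗ₜ[k] r - (b * ρ r) ⊗ₜ[k] 1 := by
  simp [psi, Algebra.TensorProduct.algebraMap_apply]

/-- The differential along the graph. -/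
noncomputable def dmap : B ⊗[k] R →ₗ[B] Ω[B⁄k] :=
  LinearMap.liftBaseChange B ((D k B).toLinearMap.comp ρ.toLinearMap)

@[simp] lemma dmap_tmul (b : B) (r : R) : dmap ρ (b ⊗ₜ[k] r) = b • D k B (ρ r) := by simp [dmap]

variable (xB : B →ₐ[k] k)

/-- The graph point. -/
noncomputable def graphPt : B ⊗[k] R →ₐ[k] k :=
  Algebra.TensorProduct.lift xB (xB.comp ρ) fun _ _ => Commute.all _ _

@[simp] lemma graphPt_tmul (b : B) (r : R) : graphPt ρ xB (b ⊗ₜ[k] r) = xB b * xB (ρ r) := by simp [graphPt]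

lemma graphPt_psi (z : B ⊗[k] R) : graphPt ρ xB (psi ρ z) = 0 := by
  induction z with
  | zero => simp
  | add p q hp hq => rw [map_add, map_add, hp, hq, add_zero]
  | tmul b r => simp [psi_tmul]

variable (s : Ω[B⁄k] →ₗ[B] B ⊗[k] R)

/-- The ideal of the tube. -/
noncomputable def tubeIdeal : Ideal (B ⊗[k] R) := Ideal.span (Set.range fun w => psi ρ (s w))

lemma tubeIdeal_le : tubeIdeal ρ s ≤ RingHom.ker (graphPt ρ xB) :=
  Ideal.span_le.2 (Set.range_subset_iff.2 fun w => graphPt_psi ρ xB (s w))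

variable (hs : ∀ w, dmap ρ (s w) = w)

include hs

lemma ker_graphPt_le :
    RingHom.ker (graphPt ρ xB) ≤
      (RingHom.ker (xB.comp ρ)).map (Algebra.TensorProduct.includeRight : R →ₐ[k] B ⊗[k] R) ⊔
        RingHom.ker (graphPt ρ xB) ^ 2 ⊔ tubeIdeal ρ s := by
  set q : Ideal (B ⊗[k] R) := RingHom.ker (graphPt ρ xB) with hq
  set P : Ideal (B ⊗[k] R) := (RingHom.ker (xB.comp ρ)).map
    (Algebra.TensorProduct.includeRight : R →ₐ[k] B ⊗[k] R) ⊔ q ^ 2 ⊔ tubeIdeal ρ s with hP
  let π : B ⊗[k] R →ₐ[k] (B ⊗[k] R) ⧸ P := Ideal.Quotient.mkₐ k P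
  have hr : ∀ r : R, π (1 ⊗ₜ[k] r) = algebraMap k _ (xB (ρ r)) := fun r => by
    rw [← AlgHom.commutes π (xB (ρ r))]
    refine Ideal.Quotient.eq.2 (Ideal.mem_sup_left (Ideal.mem_sup_left ?_))
    have hm : r - algebraMap k R (xB (ρ r)) ∈ RingHom.ker (xB.comp ρ) := by simp [RingHom.mem_ker]
    convert Ideal.mem_map_of_mem _ hm using 1
    rw [map_sub, AlgHom.commutes]
    rfl
  let π₁ : B →ₐ[k] (B ⊗[k] R) ⧸ P := π.comp Algebra.TensorProduct.includeLeft
  let δ : B →ₗ[k] (B ⊗[k] R) ⧸ P :=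
    π₁.toLinearMap - (Algebra.linearMap k _).comp xB.toLinearMap
  have hδπ : ∀ b, π (b ⊗ₜ[k] 1) = algebraMap k _ (xB b) + δ b := fun b => by simp [δ, π₁]
  have hmem : ∀ b, b ⊗ₜ[k] (1 : R) - algebraMap k _ (xB b) ∈ q := fun b => by
    rw [hq, RingHom.mem_ker]; simp
  have hδδ : ∀ b c, δ b * δ c = 0 := fun b c => by
    have e : ∀ b, δ b = π (b ⊗ₜ[k] 1 - algebraMap k _ (xB b)) := fun b => by rw [map_sub, AlgHom.commutes]; simp [δ, π₁]
    rw [e, e, ← map_mul]
    exact Ideal.Quotient.eq_zero_iff_mem.2 (Ideal.mem_sup_left (Ideal.mem_sup_right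
      (by rw [pow_two]; exact Ideal.mul_mem_mul (hmem b) (hmem c))))
  have hδ : ∀ b c, δ (b * c) = xB b • δ c + xB c • δ b := fun b c => by
    have h := hδπ (b * c)
    rw [show (b * c) ⊗ₜ[k] (1 : R) = (b ⊗ₜ[k] 1) * (c ⊗ₜ[k] 1) by simp, map_mul, map_mul, hδπ, hδπ,
      map_mul] at h
    rw [Algebra.smul_def, Algebra.smul_def]
    linear_combination -h + hδδ b c
  obtain ⟨E, hE, hED⟩ := exists_lift_derivation xB δ hδ
  have key : ∀ z : B ⊗[k] R, π (psi ρ z) = -E (dmap ρ z) := by
    intro z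
    induction z with
    | zero => simp
    | add p p' hp hp' => simp only [map_add, hp, hp']; abel
    | tmul b r =>
      rw [psi_tmul, map_sub, show b ⊗ₜ[k] r = (b ⊗ₜ[k] (1 : R)) * ((1 : B) ⊗ₜ[k] r) by simp, map_mul, hr,
        hδπ, hδπ, show dmap ρ ((b ⊗ₜ[k] (1 : R)) * ((1 : B) ⊗ₜ[k] r)) = b • D k B (ρ r) by simp, hE, hED,
        hδ, map_mul xB, map_mul, Algebra.smul_def, Algebra.smul_def]
      ring
  have hE0 : ∀ w, E w = 0 := fun w => by
    have h : π (psi ρ (s w)) = 0 :=
      Ideal.Quotient.eq_zero_iff_mem.2 (Ideal.mem_sup_right (Ideal.subset_span ⟨w, rfl⟩))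
    rwa [key, hs, neg_eq_zero] at h
  have hall : ∀ z, π z = algebraMap k _ (graphPt ρ xB z) := by
    intro z
    induction z with
    | zero => simp
    | add p p' hp hp' => rw [map_add, map_add, map_add, hp, hp']
    | tmul b r =>
      rw [show b ⊗ₜ[k] r = (b ⊗ₜ[k] (1 : R)) * ((1 : B) ⊗ₜ[k] r) by simp, map_mul, hr, hδπ, ← hED, hE0,
        add_zero]
      simp
  intro z hz
  exact Ideal.Quotient.eq_zero_iff_mem.1 (show π z = 0 by
    rw [hall, show graphPt ρ xB z = 0 from hz, map_zero])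

lemma exists_kills [Algebra.FormallySmooth k B] (n : ℕ) :
    ∃ φ : B →ₐ[k] R ⧸ RingHom.ker (xB.comp ρ) ^ (n + 1),
      (∀ b, φ b - algebraMap k _ (xB b) ∈
        (RingHom.ker (xB.comp ρ)).map (Ideal.Quotient.mk (RingHom.ker (xB.comp ρ) ^ (n + 1)))) ∧
      tubeIdeal ρ s ≤ RingHom.ker
        (Algebra.TensorProduct.lift φ (Ideal.Quotient.mkₐ k _) fun _ _ => Commute.all _ _) := by
  set m : Ideal R := RingHom.ker (xB.comp ρ) with hm
  have hxr : ∀ r : R, r - algebraMap k R (xB (ρ r)) ∈ m := fun r => by rw [hm, RingHom.mem_ker]; simp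
  induction n with
  | zero =>
    refine ⟨(Algebra.ofId k _).comp xB, fun b => ?_, Ideal.span_le.2 (Set.range_subset_iff.2 fun w => ?_)⟩
    · simp [Algebra.ofId_apply]
    · have e : ∀ z : B ⊗[k] R,
          Algebra.TensorProduct.lift ((Algebra.ofId k (R ⧸ m ^ (0 + 1))).comp xB) (Ideal.Quotient.mkₐ k _)
            (fun _ _ => Commute.all _ _) z = algebraMap k _ (graphPt ρ xB z) := by
        intro z
        induction z with
        | zero => simp
        | add p p' hp hp' => rw [map_add, map_add, map_add, hp, hp']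
        | tmul b r =>
          rw [Algebra.TensorProduct.lift_tmul, graphPt_tmul, map_mul]
          congr 1
          exact Ideal.Quotient.eq.2 (by rw [zero_add, pow_one]; exact hxr r)
      show Algebra.TensorProduct.lift _ _ _ (psi ρ (s w)) = 0
      rw [e, graphPt_psi, map_zero]
  | succ n ih =>
    obtain ⟨φ, hφ, hker⟩ := ih
    have hle : m ^ (n + 2) ≤ m ^ (n + 1) := Ideal.pow_le_pow_right (Nat.le_succ _)
    let π : R ⧸ m ^ (n + 2) →ₐ[k] R ⧸ m ^ (n + 1) := Ideal.Quotient.factorₐ k hle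
    have hπs : Function.Surjective π := Ideal.Quotient.factor_surjective hle
    have hπk : RingHom.ker (π : R ⧸ m ^ (n + 2) →+* R ⧸ m ^ (n + 1)) =
        (m ^ (n + 1)).map (Ideal.Quotient.mk (m ^ (n + 2))) := Ideal.Quotient.factor_ker hle
    have hkill : ∀ a ∈ m.map (Ideal.Quotient.mk (m ^ (n + 2))),
        ∀ e ∈ RingHom.ker (π : R ⧸ m ^ (n + 2) →+* R ⧸ m ^ (n + 1)), a * e = 0 := by
      intro a ha e he
      rw [hπk] at he
      have h := Ideal.mul_mem_mul ha he
      rw [← Ideal.map_mul, ← pow_succ', Ideal.map_quotient_self] at h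
      exact h
    have hkm : RingHom.ker (π : R ⧸ m ^ (n + 2) →+* R ⧸ m ^ (n + 1)) ≤ m.map (Ideal.Quotient.mk (m ^ (n + 2))) := by
      rw [hπk]
      exact Ideal.map_mono (Ideal.pow_le_self n.succ_ne_zero)
    have hnil : IsNilpotent (RingHom.ker (π : R ⧸ m ^ (n + 2) →+* R ⧸ m ^ (n + 1))) :=
      ⟨2, le_bot_iff.1 (by
        rw [pow_two, Ideal.mul_le]
        exact fun a ha e he => by rw [hkill a (hkm ha) e he]; exact zero_mem _)⟩
    let φ₁ : B →ₐ[k] R ⧸ m ^ (n + 2) := Algebra.FormallySmooth.liftOfSurjective φ π hπs hnil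
    have hφ₁π : ∀ b, π (φ₁ b) = φ b := fun b => Algebra.FormallySmooth.liftOfSurjective_apply φ π hπs hnil b
    have hφ₁ : ∀ b, φ₁ b - algebraMap k _ (xB b) ∈ m.map (Ideal.Quotient.mk (m ^ (n + 2))) := by
      intro b
      have h := hφ b
      rw [← hφ₁π, ← AlgHom.commutes π, ← map_sub] at h
      rw [show Ideal.Quotient.mk (m ^ (n + 1)) = (π : R ⧸ m ^ (n + 2) →+* R ⧸ m ^ (n + 1)).comp
          (Ideal.Quotient.mk (m ^ (n + 2))) from (Ideal.Quotient.factor_comp_mk hle).symm, ← Ideal.map_map] at h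
      obtain ⟨a, ha, hae⟩ := (Ideal.mem_map_iff_of_surjective (π : R ⧸ m ^ (n + 2) →+* R ⧸ m ^ (n + 1)) hπs).1 h
      have h2 : φ₁ b - algebraMap k _ (xB b) - a ∈ RingHom.ker (π : R ⧸ m ^ (n + 2) →+* R ⧸ m ^ (n + 1)) := by
        rw [RingHom.mem_ker, map_sub]
        exact sub_eq_zero.2 hae.symm
      simpa using add_mem (hkm h2) ha
    let V := (RingHom.ker (π : R ⧸ m ^ (n + 2) →+* R ⧸ m ^ (n + 1))).restrictScalars k
    have hscal : ∀ (a : R ⧸ m ^ (n + 2)) (c : k) (e : R ⧸ m ^ (n + 2)),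
        a - algebraMap k _ c ∈ m.map (Ideal.Quotient.mk (m ^ (n + 2))) → e ∈ V → a * e = c • e := by
      intro a c e ha he
      rw [Algebra.smul_def, ← sub_eq_zero, ← sub_mul]
      exact hkill _ ha e he
    let Φ := Algebra.TensorProduct.lift φ₁ (Ideal.Quotient.mkₐ k (m ^ (n + 2))) fun _ _ => Commute.all _ _
    have hπΦ : π.comp Φ =
        Algebra.TensorProduct.lift φ (Ideal.Quotient.mkₐ k (m ^ (n + 1))) fun _ _ => Commute.all _ _ := by
      refine Algebra.TensorProduct.ext' fun b r => ?_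
      simp only [Φ, AlgHom.comp_apply, Algebra.TensorProduct.lift_tmul, map_mul, hφ₁π]
      congr 1
    have hΦmem : ∀ w, Φ (psi ρ (s w)) ∈ V := fun w => by
      show (π.comp Φ) (psi ρ (s w)) = 0
      rw [hπΦ]
      exact hker (Ideal.subset_span ⟨w, rfl⟩)
    -- the correction
    let ε : B →ₗ[k] V := (Φ.toLinearMap ∘ₗ (psi ρ).restrictScalars k ∘ₗ s.restrictScalars k ∘ₗ
      (D k B).toLinearMap).codRestrict V fun b => hΦmem _
    have hΦb : ∀ (b : B) z, Φ (psi ρ z) ∈ V → Φ (psi ρ (b • z)) = xB b • Φ (psi ρ z) := by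
      intro b z hz
      rw [map_smul, Algebra.smul_def, Algebra.TensorProduct.algebraMap_apply, map_mul, ← hscal _ _ _ (hφ₁ b) hz]
      simp [Φ]
    have hε : ∀ b c, ε (b * c) = xB b • ε c + xB c • ε b := fun b c => Subtype.ext (by
      show Φ (psi ρ (s (D k B (b * c)))) = xB b • Φ (psi ρ (s (D k B c))) + xB c • Φ (psi ρ (s (D k B b)))
      rw [Derivation.leibniz, map_add, map_smul, map_smul, map_add, map_add, hΦb b _ (hΦmem _),
        hΦb c _ (hΦmem _)])
    obtain ⟨E, hE, hED⟩ := exists_lift_derivation xB ε hε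
    have hEs : ∀ w, (E w : R ⧸ m ^ (n + 2)) = Φ (psi ρ (s w)) := by
      intro w
      have hw : w ∈ Submodule.span B (Set.range (D k B)) := span_range_derivation k B ▸ Submodule.mem_top
      induction hw using Submodule.span_induction with
      | mem w hw => obtain ⟨b, rfl⟩ := hw; rw [hED]; rfl
      | zero => simp
      | add p p' _ _ hp hp' => simp only [map_add, Submodule.coe_add, hp, hp']
      | smul b p _ hp => rw [hE, map_smul, hΦb b _ (hΦmem _), ← hp]; rfl
    have hεmul : ∀ b c, (ε b : R ⧸ m ^ (n + 2)) * ε c = 0 := fun b c => hkill _ (hkm (ε b).2) _ (ε c).2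
    let φ₂ : B →ₐ[k] R ⧸ m ^ (n + 2) := AlgHom.ofLinearMap (φ₁.toLinearMap + V.subtype ∘ₗ ε)
      (by
        have h1 : ε 1 = 0 := by
          have := hε 1 1
          rw [one_mul, map_one xB, one_smul, left_eq_add] at this
          exact this
        simp [h1])
      (fun b c => by
        simp only [LinearMap.add_apply, LinearMap.comp_apply, AlgHom.toLinearMap_apply, Submodule.subtype_apply,
          map_mul, hε, Submodule.coe_add, Submodule.coe_smul]
        rw [← hscal _ _ _ (hφ₁ b) (ε c).2, ← hscal _ _ _ (hφ₁ c) (ε b).2]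
        linear_combination -(hεmul b c))
    have hφ₂ : ∀ b, φ₂ b = φ₁ b + ε b := fun b => rfl
    refine ⟨φ₂, fun b => ?_, Ideal.span_le.2 (Set.range_subset_iff.2 fun w => ?_)⟩
    · rw [hφ₂, add_sub_right_comm]
      exact add_mem (hφ₁ b) (hkm (ε b).2)
    · have e : ∀ z : B ⊗[k] R,
          Algebra.TensorProduct.lift φ₂ (Ideal.Quotient.mkₐ k (m ^ (n + 2))) (fun _ _ => Commute.all _ _)
            (psi ρ z) = Φ (psi ρ z) - E (dmap ρ z) := by
        intro z
        induction z with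
        | zero => simp
        | add p p' hp hp' => simp only [map_add, Submodule.coe_add, hp, hp']; ring
        | tmul b r =>
          rw [psi_tmul, dmap_tmul, hE, hED, map_sub, map_sub]
          simp only [Φ, Algebra.TensorProduct.lift_tmul, map_one, mul_one, hφ₂, hε, Submodule.coe_add,
            Submodule.coe_smul]
          rw [add_mul, mul_comm (ε b : R ⧸ m ^ (n + 2)),
            hscal (Ideal.Quotient.mkₐ k (m ^ (n + 2)) r) (xB (ρ r)) _
              (show _ from by
                rw [← AlgHom.commutes (Ideal.Quotient.mkₐ k (m ^ (n + 2))), ← map_sub]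
                exact Ideal.mem_map_of_mem _ (hxr r)) (ε b).2]
          ring
      show Algebra.TensorProduct.lift _ _ _ (psi ρ (s w)) = 0
      rw [e, hs, hEs, sub_self]

omit hs in
lemma exists_sub_mem_pow_of_le {Q : Type u} [CommRing Q] [Algebra k Q] [Algebra R Q] [IsScalarTower k R Q]
    (m : Ideal R) (p : Q →ₐ[k] k) (hmp : m ≤ (RingHom.ker p).comap (algebraMap R Q))
    (h : RingHom.ker p ≤ m.map (algebraMap R Q) ⊔ RingHom.ker p ^ 2) (z : Q) (n : ℕ) :
    ∃ r : R, z - algebraMap R Q r ∈ RingHom.ker p ^ n := by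
  set q : Ideal Q := RingHom.ker p with hq
  have h1 : ∀ i : ℕ, q ^ i ≤ (m ^ i).map (algebraMap R Q) ⊔ q ^ (i + 1) := by
    intro i
    induction i with
    | zero => simp [Ideal.map_top]
    | succ i ih =>
      have e : (m ^ i).map (algebraMap R Q) ≤ q ^ i := by
        rw [Ideal.map_pow]
        exact Ideal.pow_right_mono (Ideal.map_le_iff_le_comap.2 hmp) i
      rw [pow_succ q i]
      refine (Ideal.mul_mono ih h).trans ?_
      rw [Ideal.sup_mul, Ideal.mul_sup, Ideal.mul_sup, ← Ideal.map_mul, ← pow_succ]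
      refine sup_le (sup_le le_sup_left (le_sup_of_le_right ?_)) (le_sup_of_le_right (sup_le ?_ ?_))
      · rw [show i + 1 + 1 = i + 2 from rfl, pow_add]
        exact Ideal.mul_mono_left e
      · rw [pow_succ q (i + 1)]
        exact Ideal.mul_mono_right (Ideal.map_le_iff_le_comap.2 hmp)
      · rw [← pow_add]
        exact Ideal.pow_le_pow_right (by omega)
  induction n generalizing z with
  | zero => exact ⟨0, by simp⟩
  | succ n ih =>
    obtain ⟨r, hr⟩ := ih z
    obtain ⟨a, ha, b, hb, hab⟩ := Submodule.mem_sup.1 (h1 n hr)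
    suffices ∀ a ∈ (m ^ n).map (algebraMap R Q), ∃ r' : R, a - algebraMap R Q r' ∈ q ^ (n + 1) by
      obtain ⟨r', hr'⟩ := this a ha
      refine ⟨r + r', ?_⟩
      rw [map_add, show z - (algebraMap R Q r + algebraMap R Q r') = (a - algebraMap R Q r') + b by
        linear_combination -hab]
      exact add_mem hr' hb
    clear ha hb hab hr a b r ih z
    intro a ha
    refine Submodule.span_induction ?_ ⟨0, by simp⟩ ?_ ?_ ha
    · rintro _ ⟨r, hr, rfl⟩
      exact ⟨r, by rw [sub_self]; exact zero_mem _⟩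
    · rintro a b ha' hb' ⟨r, hr⟩ ⟨r', hr'⟩
      exact ⟨r + r', by rw [map_add, add_sub_add_comm]; exact add_mem hr hr'⟩
    · rintro c a ha' ⟨r, hr⟩
      refine ⟨algebraMap k R (p c) * r, ?_⟩
      rw [smul_eq_mul, map_mul, ← IsScalarTower.algebraMap_apply,
        show c * a - algebraMap k Q (p c) * algebraMap R Q r =
          (c - algebraMap k Q (p c)) * a + algebraMap k Q (p c) * (a - algebraMap R Q r) by ring]
      refine add_mem ?_ (Ideal.mul_mem_left _ _ hr)
      rw [pow_succ']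
      refine Ideal.mul_mem_mul (by rw [hq, RingHom.mem_ker]; simp) ?_
      refine Ideal.pow_right_mono (Ideal.map_le_iff_le_comap.2 hmp) n ?_
      rw [← Ideal.map_pow]
      exact ha'

variable [Algebra.FormallySmooth k B] [Algebra.FiniteType k R] [Algebra.FiniteType k B]

/-- The tube is étale at the graph point, also after any quotient killed by all infinitesimal lifts. -/
theorem isEtaleAt_of_kills (J : Ideal (B ⊗[k] R)) (hJ : tubeIdeal ρ s ≤ J)
    (hJp : J ≤ RingHom.ker (graphPt ρ xB))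
    (hJk : ∀ (n : ℕ) (φ : B →ₐ[k] R ⧸ RingHom.ker (xB.comp ρ) ^ (n + 1)),
      (∀ b, φ b - algebraMap k _ (xB b) ∈
        (RingHom.ker (xB.comp ρ)).map (Ideal.Quotient.mk (RingHom.ker (xB.comp ρ) ^ (n + 1)))) →
      tubeIdeal ρ s ≤ RingHom.ker
        (Algebra.TensorProduct.lift φ (Ideal.Quotient.mkₐ k _) fun _ _ => Commute.all _ _) →
      J ≤ RingHom.ker (Algebra.TensorProduct.lift φ (Ideal.Quotient.mkₐ k _) fun _ _ => Commute.all _ _)) :
    letI : Algebra R ((B ⊗[k] R) ⧸ J) :=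
      ((Ideal.Quotient.mk J).comp (Algebra.TensorProduct.includeRight : R →ₐ[k] B ⊗[k] R).toRingHom).toAlgebra
    ∀ (q : Ideal ((B ⊗[k] R) ⧸ J)) [q.IsPrime], q = (RingHom.ker (graphPt ρ xB)).map (Ideal.Quotient.mk J) →
      Algebra.IsEtaleAt R q := by
  letI : Algebra R ((B ⊗[k] R) ⧸ J) :=
    ((Ideal.Quotient.mk J).comp (Algebra.TensorProduct.includeRight : R →ₐ[k] B ⊗[k] R).toRingHom).toAlgebra
  intro q hqp hq
  set m : Ideal R := RingHom.ker (xB.comp ρ) with hm
  haveI hT : IsScalarTower k R ((B ⊗[k] R) ⧸ J) := IsScalarTower.of_algebraMap_eq fun c =>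
    (congrArg (Ideal.Quotient.mk J)
      ((Algebra.TensorProduct.includeRight : R →ₐ[k] B ⊗[k] R).commutes c)).symm
  let p : (B ⊗[k] R) ⧸ J →ₐ[k] k := Ideal.Quotient.liftₐ J (graphPt ρ xB) fun a ha => hJp ha
  have hqp' : q = RingHom.ker p := by
    rw [hq]
    ext z
    obtain ⟨z, rfl⟩ := Ideal.Quotient.mk_surjective z
    rw [← Ideal.mem_comap, Ideal.comap_map_of_surjective' _ Ideal.Quotient.mk_surjective, Ideal.mk_ker,
      sup_eq_left.2 hJp]
    exact Iff.rfl
  haveI : q.IsMaximal := hqp' ▸ RingHom.ker_isMaximal_of_surjective _ fun c =>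
    ⟨algebraMap k _ c, AlgHom.commutes _ c⟩
  haveI : m.IsMaximal := RingHom.ker_isMaximal_of_surjective _ fun c => ⟨algebraMap k R c, AlgHom.commutes _ c⟩
  haveI : IsNoetherianRing R := Algebra.FiniteType.isNoetherianRing k R
  haveI : Algebra.FiniteType k (B ⊗[k] R) := by
    haveI : Algebra.FiniteType B (B ⊗[k] R) := inferInstance
    exact Algebra.FiniteType.trans (S := B) inferInstance inferInstance
  haveI : Algebra.FiniteType k ((B ⊗[k] R) ⧸ J) :=
    Algebra.FiniteType.of_surjective (Ideal.Quotient.mkₐ k J) Ideal.Quotient.mk_surjective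
  haveI : IsNoetherianRing ((B ⊗[k] R) ⧸ J) := Algebra.FiniteType.isNoetherianRing k _
  haveI : Algebra.FiniteType R ((B ⊗[k] R) ⧸ J) := Algebra.FiniteType.of_restrictScalars_finiteType k R _
  haveI : Algebra.FinitePresentation R ((B ⊗[k] R) ⧸ J) := Algebra.FinitePresentation.of_finiteType.1 inferInstance
  refine EtQuotH28.isEtaleAt_of_thickenings m q ?_ ?_ fun n => ⟨n, fun r hr => ?_⟩
  · ext r
    rw [hqp', Ideal.mem_comap, RingHom.mem_ker, hm, RingHom.mem_ker]
    show graphPt ρ xB ((1 : B) ⊗ₜ[k] r) = 0 ↔ _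
    simp
  · rw [hqp']
    intro z i
    refine exists_sub_mem_pow_of_le m p (fun r hr => ?_) ?_ z i
    · show graphPt ρ xB ((1 : B) ⊗ₜ[k] r) = 0
      rw [graphPt_tmul, map_one, one_mul]
      exact hr
    · rw [← hqp', hq]
      refine (Ideal.map_mono (ker_graphPt_le ρ xB s hs)).trans ?_
      rw [Ideal.map_sup, Ideal.map_sup, Ideal.map_pow]
      refine sup_le (sup_le (le_sup_of_le_left ?_) le_sup_right) ?_
      · exact (Ideal.map_map (Algebra.TensorProduct.includeRight : R →ₐ[k] B ⊗[k] R).toRingHom _).le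
      rw [show (tubeIdeal ρ s).map (Ideal.Quotient.mk J) = ⊥ from
        Ideal.map_eq_bot_iff_le_ker _ |>.2 (by rw [Ideal.mk_ker]; exact hJ)]
      exact bot_le
  · cases n with
    | zero => simp
    | succ n =>
      obtain ⟨φ, hφ, hker⟩ := exists_kills ρ xB s hs n
      let F := Algebra.TensorProduct.lift φ (Ideal.Quotient.mkₐ k (m ^ (n + 1))) fun _ _ => Commute.all _ _
      let G : (B ⊗[k] R) ⧸ J →ₐ[k] R ⧸ m ^ (n + 1) := Ideal.Quotient.liftₐ J F fun a ha => hJk n φ hφ hker ha
      have hG : ∀ z, G z - algebraMap k _ (p z) ∈ m.map (Ideal.Quotient.mk (m ^ (n + 1))) := by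
        intro z
        obtain ⟨z, rfl⟩ := Ideal.Quotient.mk_surjective z
        show F z - algebraMap k _ (graphPt ρ xB z) ∈ _
        induction z with
        | zero => simp
        | add a b ha hb => simp only [map_add]; rw [add_sub_add_comm]; exact add_mem ha hb
        | tmul b r =>
          simp only [F, Algebra.TensorProduct.lift_tmul, graphPt_tmul, map_mul]
          rw [show ∀ a a' b b' : R ⧸ m ^ (n + 1), a * b - a' * b' = (a - a') * b + a' * (b - b') from
            fun _ _ _ _ => by ring]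
          refine add_mem (Ideal.mul_mem_right _ _ (hφ b)) (Ideal.mul_mem_left _ _ ?_)
          rw [← AlgHom.commutes (Ideal.Quotient.mkₐ k (m ^ (n + 1))), ← map_sub]
          exact Ideal.mem_map_of_mem _ (by rw [hm, RingHom.mem_ker]; simp)
      have hle : q ≤ (m.map (Ideal.Quotient.mk (m ^ (n + 1)))).comap G := by
        intro z hz
        rw [hqp', RingHom.mem_ker] at hz
        have := hG z
        rw [hz, map_zero, sub_zero] at this
        exact this
      have h1 := (Ideal.pow_right_mono hle (n + 1)).trans (Ideal.le_comap_pow _ _) hr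
      rw [Ideal.mem_comap, ← Ideal.map_pow, Ideal.map_quotient_self, Ideal.mem_bot] at h1
      have h2 : G (algebraMap R _ r) = Ideal.Quotient.mk (m ^ (n + 1)) r := by
        show F ((1 : B) ⊗ₜ[k] r) = _
        simp [F]
      rw [h2] at h1
      exact Ideal.Quotient.eq_zero_iff_mem.1 h1

/-- Étale at the graph point, on the reduced tube. -/
theorem isEtaleAt_radical [IsReduced R] :
    letI : Algebra R ((B ⊗[k] R) ⧸ (tubeIdeal ρ s).radical) :=
      ((Ideal.Quotient.mk _).comp (Algebra.TensorProduct.includeRight : R →ₐ[k] B ⊗[k] R).toRingHom).toAlgebra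
    ∀ (q : Ideal ((B ⊗[k] R) ⧸ (tubeIdeal ρ s).radical)) [q.IsPrime],
      q = (RingHom.ker (graphPt ρ xB)).map (Ideal.Quotient.mk _) → Algebra.IsEtaleAt R q := by
  set I := tubeIdeal ρ s with hI
  set m : Ideal R := RingHom.ker (xB.comp ρ) with hm
  have hIp : I ≤ RingHom.ker (graphPt ρ xB) := tubeIdeal_le ρ xB s
  haveI hpr : (RingHom.ker (graphPt ρ xB)).IsPrime := RingHom.ker_isPrime _
  refine isEtaleAt_of_kills ρ xB s hs I.radical Ideal.le_radical (hpr.radical_le_iff.2 hIp) fun n φ hφ hker a ha => ?_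
  letI : Algebra R ((B ⊗[k] R) ⧸ I) :=
    ((Ideal.Quotient.mk I).comp (Algebra.TensorProduct.includeRight : R →ₐ[k] B ⊗[k] R).toRingHom).toAlgebra
  let q : Ideal ((B ⊗[k] R) ⧸ I) := (RingHom.ker (graphPt ρ xB)).map (Ideal.Quotient.mk I)
  haveI : q.IsPrime := Ideal.map_isPrime_of_surjective Ideal.Quotient.mk_surjective (by rw [Ideal.mk_ker]; exact hIp)
  haveI : IsNoetherianRing R := Algebra.FiniteType.isNoetherianRing k R
  haveI : IsScalarTower k R ((B ⊗[k] R) ⧸ I) := IsScalarTower.of_algebraMap_eq fun c =>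
    (congrArg (Ideal.Quotient.mk I)
      ((Algebra.TensorProduct.includeRight : R →ₐ[k] B ⊗[k] R).commutes c)).symm
  haveI : Algebra.FiniteType k (B ⊗[k] R) := by
    haveI : Algebra.FiniteType B (B ⊗[k] R) := inferInstance
    exact Algebra.FiniteType.trans (S := B) inferInstance inferInstance
  haveI : Algebra.FiniteType k ((B ⊗[k] R) ⧸ I) :=
    Algebra.FiniteType.of_surjective (Ideal.Quotient.mkₐ k I) Ideal.Quotient.mk_surjective
  haveI : Algebra.FiniteType R ((B ⊗[k] R) ⧸ I) := Algebra.FiniteType.of_restrictScalars_finiteType k R _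
  haveI : Algebra.FinitePresentation R ((B ⊗[k] R) ⧸ I) := Algebra.FinitePresentation.of_finiteType.1 inferInstance
  haveI het : Algebra.IsEtaleAt R q := isEtaleAt_of_kills ρ xB s hs I le_rfl hIp (fun _ _ _ h => h) q rfl
  obtain ⟨f, hfq, hfet⟩ := Algebra.exists_etale_of_isEtaleAt (R := R) q
  haveI := hfet
  haveI := Hens.isReduced_of_etale R (Localization.Away f)
  obtain ⟨u, rfl⟩ := Ideal.Quotient.mk_surjective f
  have hnil : IsNilpotent (algebraMap _ (Localization.Away (Ideal.Quotient.mk I u)) (Ideal.Quotient.mk I a)) := by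
    obtain ⟨i, hi⟩ := ha
    exact ⟨i, by rw [← map_pow, ← map_pow, Ideal.Quotient.eq_zero_iff_mem.2 hi, map_zero]⟩
  obtain ⟨⟨_, i, rfl⟩, hi⟩ := (IsLocalization.map_eq_zero_iff (Submonoid.powers (Ideal.Quotient.mk I u))
    (Localization.Away (Ideal.Quotient.mk I u)) _).1 hnil.eq_zero
  have hmem : u ^ i * a ∈ I := Ideal.Quotient.eq_zero_iff_mem.1 (by rw [map_mul, map_pow]; exact hi)
  let F := Algebra.TensorProduct.lift φ (Ideal.Quotient.mkₐ k (m ^ (n + 1))) fun _ _ => Commute.all _ _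
  have hF : ∀ z, F z - algebraMap k _ (graphPt ρ xB z) ∈ m.map (Ideal.Quotient.mk (m ^ (n + 1))) := by
    intro z
    induction z with
    | zero => simp
    | add a b ha hb => simp only [map_add]; rw [add_sub_add_comm]; exact add_mem ha hb
    | tmul b r =>
      simp only [F, Algebra.TensorProduct.lift_tmul, graphPt_tmul, map_mul]
      rw [show ∀ a a' b b' : R ⧸ m ^ (n + 1), a * b - a' * b' = (a - a') * b + a' * (b - b') from
        fun _ _ _ _ => by ring]
      refine add_mem (Ideal.mul_mem_right _ _ (hφ b)) (Ideal.mul_mem_left _ _ ?_)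
      rw [← AlgHom.commutes (Ideal.Quotient.mkₐ k (m ^ (n + 1))), ← map_sub]
      exact Ideal.mem_map_of_mem _ (by rw [hm, RingHom.mem_ker]; simp)
  have hu : IsUnit (F u) := by
    have hu0 : graphPt ρ xB u ≠ 0 := fun h => hfq (Ideal.mem_map_of_mem _ (show u ∈ RingHom.ker (graphPt ρ xB) from h))
    have hc : IsUnit (algebraMap k (R ⧸ m ^ (n + 1)) (graphPt ρ xB u)) := (isUnit_iff_ne_zero.2 hu0).map _
    have hn : IsNilpotent (F u - algebraMap k _ (graphPt ρ xB u)) := ⟨n + 1, by
      have := Ideal.pow_mem_pow (hF u) (n + 1)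
      rwa [← Ideal.map_pow, Ideal.map_quotient_self, Ideal.mem_bot] at this⟩
    have := hn.isUnit_add_left_of_commute hc (Commute.all _ _)
    rwa [add_sub_cancel] at this
  have h0 : F (u ^ i * a) = 0 := hker hmem
  rw [map_mul, map_pow] at h0
  exact (hu.pow i).mul_right_eq_zero.1 h0

end Groth.Agent.EqTub28
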