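import Groth.Agent.Lib.EqTub28.Alg
import Groth.Agent.Lib.EtQuotH28.Tensor
import Groth.Agent.Lib.EtQuotH28.Rees
import Groth.Agent.Lib.HopfMod.Avg
import Mathlib.RingTheory.Smooth.Kaehler

/-!
# Equivariant tubes
-/

open TensorProduct KaehlerDifferential HopfRep Groth.Agent.Comodule

universe u

namespace Groth.Agent.EqTub28

set_option linter.unusedSectionVars false

variable {k : Type u} [Field k] {A : Type u} [CommRing A] [HopfAlgebra k A]

section General

variable {V W : Type u} [AddCommGroup V] [Module k V] [Comod k A V] [AddCommGroup W] [Module k W] [Comod k A W]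

lemma isSubcomod_comap {f : V →ₗ[k] W} (hf : Hoch.IsComodHom A f) {N : Submodule k W}
    (hN : IsSubcomod (k := k) (A := A) N) : IsSubcomod (k := k) (A := A) (N.comap f) := by
  intro v hv
  show Comod.coact (k := k) (A := A) v ∈ tens A (N.comap f)
  have hk : LinearMap.ker (N.mkQ ∘ₗ f) = N.comap f := by rw [LinearMap.ker_comp, Submodule.ker_mkQ]
  rw [← hk]
  refine (mem_tens_ker_iff (N.mkQ ∘ₗ f) _).2 ?_
  rw [LinearMap.rTensor_comp_apply, ← comodHom_apply hf]
  refine (mem_tens_ker_iff N.mkQ _).1 ?_
  rw [Submodule.ker_mkQ]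
  exact hN (f v) hv

lemma avg_mem {l : A →ₗ[k] k} {f : V →ₗ[k] W} {N : Submodule k W} (hN : IsSubcomod (k := k) (A := A) N)
    (hf : ∀ v, f v ∈ N) (v : V) : HopfMod.avg l f v ∈ N := by
  simp only [HopfMod.avg, LinearMap.comp_apply]
  generalize Comod.coact (k := k) (A := A) v = t
  induction t with
  | zero => simp
  | add p q hp hq => simp only [map_add]; exact add_mem hp hq
  | tmul n a =>
    simp only [LinearMap.rTensor_tmul, LinearMap.comp_apply]
    obtain ⟨y, hy⟩ := hN (f n) (hf n)
    rw [← hy]
    clear hy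
    induction y with
    | zero => simp
    | add p q hp hq => simp only [map_add, TensorProduct.add_tmul]; exact add_mem hp hq
    | tmul m c => simp only [LinearMap.rTensor_tmul, HopfMod.twist_tmul]; exact N.smul_mem _ m.2

lemma avg_eq_self {l : A →ₗ[k] k} (hl : l 1 = 1) {f : V →ₗ[k] V} {N : Submodule k V}
    (hN : IsSubcomod (k := k) (A := A) N) (hf : ∀ v ∈ N, f v = v) {v : V} (hv : v ∈ N) :
    HopfMod.avg l f v = v := by
  have h := LinearMap.congr_fun (HopfMod.avg_id (A := A) (M := V) hl) v
  rw [LinearMap.id_apply] at h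
  refine Eq.trans ?_ h
  obtain ⟨y, hy⟩ := hN v hv
  simp only [HopfMod.avg, LinearMap.comp_apply, LinearMap.comp_id]
  rw [← hy]
  congr 1
  clear hy h
  induction y with
  | zero => simp
  | add p q hp hq => simp only [map_add, hp, hq]
  | tmul m c => simp [hf _ m.2]

variable {R : Type u} [CommRing R] [Algebra k R] [Comod k A R] [GLin.IsCoactAlg k A R]

/-- The ideal generated by the image of an equivariant map is stable. -/
lemma isSubcomod_span {f : V →ₗ[k] R} (hf : Hoch.IsComodHom A f) {I : Ideal R} (hI : I = Ideal.span (Set.range f)) :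
    IsSubcomod (k := k) (A := A) (I.restrictScalars k) := by
  intro z hz
  show Comod.coact (k := k) (A := A) z ∈ tens A (I.restrictScalars k)
  rw [Submodule.restrictScalars_mem, hI] at hz
  refine Submodule.span_induction ?_ (by rw [map_zero]; exact zero_mem _) ?_ ?_ hz
  · rintro _ ⟨v, rfl⟩
    rw [comodHom_apply hf]
    generalize Comod.coact (k := k) (A := A) v = t
    induction t with
    | zero => simp
    | add p q hp hq => rw [map_add]; exact add_mem hp hq
    | tmul n a => exact tmul_mem_tens (show f n ∈ I from hI ▸ Ideal.subset_span ⟨n, rfl⟩) a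
  · intro a b _ _ ha hb
    rw [map_add]
    exact add_mem ha hb
  · intro c a _ ha
    rw [smul_eq_mul, GLin.IsCoactAlg.coact_mul]
    obtain ⟨y, hy⟩ := ha
    rw [← hy]
    clear hy
    generalize Comod.coact (k := k) (A := A) c = d
    induction d with
    | zero => simp
    | add p q hp hq => rw [add_mul]; exact add_mem hp hq
    | tmul c' a' =>
      induction y with
      | zero => simp
      | add p q hp hq => rw [map_add, mul_add]; exact add_mem hp hq
      | tmul m b =>
        rw [LinearMap.rTensor_tmul, Algebra.TensorProduct.tmul_mul_tmul]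
        exact tmul_mem_tens (show c' * (m : R) ∈ I from I.mul_mem_left c' m.2) _

end General

variable {R : Type u} [CommRing R] [Algebra k R] [Comod k A R] [GLin.IsCoactAlg k A R]
  {B : Type u} [CommRing B] [Algebra k B] [Comod k A B] [GLin.IsCoactAlg k A B]

/-- Diagonal coaction on a tensor product over the base field. -/
@[reducible] noncomputable def diagComod (B R : Type u) [CommRing B] [Algebra k B] [Comod k A B] [GLin.IsCoactAlg k A B]
    [CommRing R] [Algebra k R] [Comod k A R] [GLin.IsCoactAlg k A R] : Comod k A (B ⊗[k] R) :=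
  EtQuotH28.tensorComod (S₀ := k) (fun c => (GLin.invariants k A B).algebraMap_mem c)
    (fun c => (GLin.invariants k A R).algebraMap_mem c)

lemma diag_isCoactAlg : @GLin.IsCoactAlg k _ A _ _ (B ⊗[k] R) _ _ (diagComod B R) :=
  EtQuotH28.tensor_isCoactAlg _ _

lemma diag_isHopfMod : letI := diagComod (k := k) (A := A) B R; TameAct.IsHopfMod k A B (B ⊗[k] R) := by
  letI := diagComod (k := k) (A := A) B R
  haveI := diag_isCoactAlg (k := k) (A := A) (B := B) (R := R)
  refine ⟨fun b z => ?_⟩
  have hinc := EtQuotH28.isComodHom_incL (S₀ := k) (S := B) (B := R)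
    (fun c => (GLin.invariants k A B).algebraMap_mem c) (fun c => (GLin.invariants k A R).algebraMap_mem c)
  rw [Algebra.smul_def, GLin.IsCoactAlg.coact_mul,
    show algebraMap B (B ⊗[k] R) b = (EtQuotH28.incL k B R (k := k)).toLinearMap b from rfl, comodHom_apply hinc]
  generalize Comod.coact (k := k) (A := A) b = d
  generalize Comod.coact (k := k) (A := A) z = y
  induction d with
  | zero => simp
  | add p q hp hq => simp only [map_add, add_mul, LinearMap.add_apply, hp, hq]
  | tmul b' a' =>
    induction y with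
    | zero => simp
    | add p q hp hq => simp only [map_add, mul_add, hp, hq]
    | tmul m a => simp [Algebra.smul_def, Algebra.TensorProduct.tmul_mul_tmul]

variable (ρ : R →ₐ[k] B)

lemma isComodHom_psi (hρ : Hoch.IsComodHom A ρ.toLinearMap) :
    letI := diagComod (k := k) (A := A) B R
    Hoch.IsComodHom A ((psi ρ).restrictScalars k) := by
  letI := diagComod (k := k) (A := A) B R
  have h1 : Hoch.IsComodHom A ((gr ρ).restrictScalars k).toLinearMap := by
    refine EtQuotH28.isComodHom_of_factors _ _ _ (LinearMap.ext fun b => ?_) ?_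
    · have e : ((gr ρ).restrictScalars k).comp (EtQuotH28.incL k B R) = AlgHom.id k B :=
        AlgHom.ext fun b => by simp
      rw [e]
      simp
    · rwa [show ((gr ρ).restrictScalars k).comp (EtQuotH28.incR k B R) = ρ from AlgHom.ext fun r => by simp]
  have h2 := EtQuotH28.isComodHom_incL (S₀ := k) (S := B) (B := R)
    (fun c => (GLin.invariants k A B).algebraMap_mem c) (fun c => (GLin.invariants k A R).algebraMap_mem c)
  refine LinearMap.ext fun z => ?_
  have e : (psi ρ).restrictScalars k =
      LinearMap.id - (EtQuotH28.incL k B R (k := k)).toLinearMap ∘ₗ ((gr ρ).restrictScalars k).toLinearMap := rfl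
  rw [e]
  simp only [LinearMap.comp_apply, LinearMap.sub_apply, LinearMap.id_apply, map_sub, LinearMap.rTensor_sub,
    LinearMap.rTensor_id, LinearMap.rTensor_comp]
  rw [comodHom_apply h2, comodHom_apply h1]

lemma isSubcomod_ker_dmap (hρ : Hoch.IsComodHom A ρ.toLinearMap) :
    letI := diagComod (k := k) (A := A) B R
    IsSubcomod (k := k) (A := A) ((LinearMap.ker (dmap ρ)).restrictScalars k) := by
  letI := diagComod (k := k) (A := A) B B
  haveI := diag_isCoactAlg (k := k) (A := A) (B := B) (R := B)
  letI := diagComod (k := k) (A := A) B R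
  let J : Ideal (B ⊗[k] B) := KaehlerDifferential.ideal k B
  have hJ : IsSubcomod (k := k) (A := A) (J.restrictScalars k) := by
    have hμ : Hoch.IsComodHom A (Algebra.TensorProduct.lmul' k (S := B)).toLinearMap := by
      refine EtQuotH28.isComodHom_of_factors _ _ _ (LinearMap.ext fun b => ?_) (LinearMap.ext fun b => ?_) <;>
        simp only [LinearMap.comp_apply]
      · rw [show (Algebra.TensorProduct.lmul' k (S := B)).comp (EtQuotH28.incL k B B) = AlgHom.id k B from
          AlgHom.ext fun b => by simp]
        simp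
      · rw [show (Algebra.TensorProduct.lmul' k (S := B)).comp (EtQuotH28.incR k B B) = AlgHom.id k B from
          AlgHom.ext fun b => by simp]
        simp
    exact isSubcomod_ker hμ
  let θ : B ⊗[k] R →ₐ[k] B ⊗[k] B := Algebra.TensorProduct.map (AlgHom.id k B) ρ
  have hθ : Hoch.IsComodHom A θ.toLinearMap := by
    refine EtQuotH28.isComodHom_of_factors _ _ _ ?_ ?_
    · rw [show θ.comp (EtQuotH28.incL k B R) = EtQuotH28.incL k B B from AlgHom.ext fun b => by simp [θ]]
      exact EtQuotH28.isComodHom_incL _ _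
    · rw [show θ.comp (EtQuotH28.incR k B R) = (EtQuotH28.incR k B B).comp ρ from AlgHom.ext fun b => by simp [θ]]
      refine LinearMap.ext fun r => ?_
      simp only [LinearMap.comp_apply, AlgHom.comp_toLinearMap, LinearMap.rTensor_comp]
      rw [comodHom_apply (EtQuotH28.isComodHom_incR _ _), comodHom_apply hρ]
  have hψ := isComodHom_psi (A := A) ρ hρ
  have hL : Hoch.IsComodHom A (θ.toLinearMap ∘ₗ (psi ρ).restrictScalars k) := by
    refine LinearMap.ext fun z => ?_
    simp only [LinearMap.comp_apply, LinearMap.rTensor_comp]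
    rw [comodHom_apply hθ, comodHom_apply hψ]
  have hmem : ∀ z, θ (psi ρ z) ∈ J := fun z => by
    show Algebra.TensorProduct.lmul' k (S := B) (θ (psi ρ z)) = 0
    induction z with
    | zero => simp
    | add p q hp hq => simp only [map_add, hp, hq, add_zero]
    | tmul b r => simp [θ, psi_tmul]
  have hd : ∀ z, dmap ρ z = J.toCotangent ⟨θ (psi ρ z), hmem z⟩ := fun z => by
    induction z with
    | zero => exact ((dmap ρ).map_zero).trans (((J.toCotangent_eq_zero _).2 (by simp)).symm)
    | add p q hp hq =>
      rw [map_add, hp, hq]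
      exact (map_add J.toCotangent _ _).symm.trans (congrArg _ (Subtype.ext (by simp)))
    | tmul b r =>
      rw [dmap_tmul, KaehlerDifferential.D_apply]
      refine (LinearMap.map_smul_of_tower J.toCotangent b _).symm.trans (congrArg _ (Subtype.ext ?_))
      simp [θ, psi_tmul, Algebra.smul_def, mul_sub]
  have hcomap := isSubcomod_comap hL (EtQuotH28.isSubcomod_idealPow hJ 2)
  convert hcomap using 1
  ext z
  simp only [Submodule.restrictScalars_mem, LinearMap.mem_ker, Submodule.mem_comap, LinearMap.comp_apply,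
    LinearMap.restrictScalars_apply, AlgHom.toLinearMap_apply]
  rw [hd]
  exact J.toCotangent_eq_zero _

/-- An equivariant section of the differential, and the stability of its tube. -/
theorem exists_section (hG : IsLinearlyReductive k A) [Algebra.FormallySmooth k B]
    (hρ : Hoch.IsComodHom A ρ.toLinearMap) (hρs : Function.Surjective ρ) :
    ∃ s : Ω[B⁄k] →ₗ[B] B ⊗[k] R, (∀ w, dmap ρ (s w) = w) ∧
      letI := diagComod (k := k) (A := A) B R
      IsSubcomod (k := k) (A := A) ((tubeIdeal ρ s).restrictScalars k) := by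
  letI := diagComod (k := k) (A := A) B R
  haveI := diag_isCoactAlg (k := k) (A := A) (B := B) (R := R)
  haveI := diag_isHopfMod (k := k) (A := A) (B := B) (R := R)
  obtain ⟨l, hl1, hl⟩ := HopfMod.exists_integral hG
  have hsurj : Function.Surjective (dmap ρ) := by
    rw [← LinearMap.range_eq_top, eq_top_iff, ← span_range_derivation k B, Submodule.span_le]
    rintro _ ⟨b, rfl⟩
    obtain ⟨r, rfl⟩ := hρs b
    exact ⟨1 ⊗ₜ[k] r, by simp⟩
  obtain ⟨s₀, hs₀⟩ := Module.projective_lifting_property (dmap ρ) LinearMap.id hsurj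
  have hs₀' : ∀ w, dmap ρ (s₀ w) = w := fun w => LinearMap.congr_fun hs₀ w
  let K := (LinearMap.ker (dmap ρ)).restrictScalars k
  have hK : IsSubcomod (k := k) (A := A) K := isSubcomod_ker_dmap ρ hρ
  let p : B ⊗[k] R →ₗ[B] B ⊗[k] R := LinearMap.id - s₀ ∘ₗ dmap ρ
  have hp : ∀ z, dmap ρ (p z) = 0 := fun z => by simp [p, hs₀']
  let P₀ := HopfMod.avg l (p.restrictScalars k)
  let P : B ⊗[k] R →ₗ[B] B ⊗[k] R :=
    { P₀ with map_smul' := fun b z => HopfMod.avg_smul l (p.restrictScalars k) (fun r m => map_smul p r m) b z }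
  have hPK : ∀ z, dmap ρ (P z) = 0 := fun z => avg_mem hK (fun v => hp v) z
  have hPid : ∀ z, dmap ρ z = 0 → P z = z := fun z hz =>
    avg_eq_self hl1 hK (fun v (hv : dmap ρ v = 0) => by simp [p, hv]) hz
  refine ⟨(LinearMap.id - P) ∘ₗ s₀, fun w => by simp [hPK, hs₀'], ?_⟩
  let F : B ⊗[k] R →ₗ[k] B ⊗[k] R := (psi ρ).restrictScalars k ∘ₗ (LinearMap.id - P₀)
  have hF : Hoch.IsComodHom A F := by
    refine LinearMap.ext fun z => ?_
    simp only [F, LinearMap.comp_apply, LinearMap.rTensor_comp, LinearMap.rTensor_sub, LinearMap.rTensor_id,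
      LinearMap.sub_apply, LinearMap.id_apply]
    rw [comodHom_apply (isComodHom_psi (A := A) ρ hρ), map_sub, comodHom_apply (HopfMod.isComodHom_avg hl _)]
  refine isSubcomod_span hF (congrArg Ideal.span (Set.ext fun z => ⟨?_, ?_⟩))
  · rintro ⟨w, rfl⟩
    exact ⟨s₀ w, rfl⟩
  · rintro ⟨v, rfl⟩
    refine ⟨dmap ρ v, ?_⟩
    show psi ρ (s₀ (dmap ρ v) - P (s₀ (dmap ρ v))) = psi ρ (v - P v)
    have h : P (v - s₀ (dmap ρ v)) = v - s₀ (dmap ρ v) := hPid _ (by simp [hs₀'])
    rw [map_sub P] at h
    refine congrArg _ ?_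
    linear_combination (norm := abel) h

end Groth.Agent.EqTub28
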