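import Groth.Agent.Lib.EqTub28.Equiv
import Groth.Agent.Lib.EtQuotH28.Strong
import Groth.Agent.Lib.EqZMT28.Poly
import Groth.Agent.Lib.EqZMT28.Basic
import Groth.Agent.S2091
import Groth.Agent.Lib.RegLoc.GlobalDim
import Mathlib.RingTheory.Smooth.Locus

/-!
# Stabilisers near a closed orbit
-/

open TensorProduct KaehlerDifferential HopfRep WithConv Groth.Agent.Comodule

universe u

namespace Groth.Agent.EqTub28

set_option linter.unusedSectionVars false
set_option linter.style.haveILetI false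

section Gen

variable {k : Type u} [Field k] {A : Type u} [CommRing A] [HopfAlgebra k A]
  {R : Type u} [CommRing R] [Algebra k R] [Comod k A R] [GLin.IsCoactAlg k A R]
  {Q : Type u} [CommRing Q] [Algebra k Q] [Comod k A Q] [GLin.IsCoactAlg k A Q]

lemma orbitHom_comp' {φ : R →ₐ[k] Q} (hφ : Hoch.IsComodHom A φ.toLinearMap) (p : Q →ₐ[k] k) :
    GLin.orbitHom k A (p.comp φ) = (GLin.orbitHom k A p).comp φ := by
  refine AlgHom.ext fun f => ?_
  rw [AlgHom.comp_apply, orbitHom_apply, orbitHom_apply]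
  rw [show Comod.coact (k := k) (A := A) (φ f) = φ.toLinearMap.rTensor A (Comod.coact (k := k) (A := A) f) from
    comodHom_apply hφ f, ← LinearMap.rTensor_comp_apply, AlgHom.comp_toLinearMap]

lemma mv_comp' {φ : R →ₐ[k] Q} (hφ : Hoch.IsComodHom A φ.toLinearMap) (g : OrbitH28.Pts k A) (p : Q →ₐ[k] k) :
    (OrbitH28.mv g p).comp φ = OrbitH28.mv g (p.comp φ) := by
  refine AlgHom.ext fun f => ?_
  rw [AlgHom.comp_apply, OrbitH28.mv_apply, OrbitH28.mv_apply, orbitHom_comp' hφ]
  rfl

lemma stabIdeal_le_of_comp {φ : R →ₐ[k] Q} (hφ : Hoch.IsComodHom A φ.toLinearMap) (p : Q →ₐ[k] k) :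
    GLin.stabIdeal k A (p.comp φ) ≤ GLin.stabIdeal k A p := by
  rw [GLin.stabIdeal, Ideal.map_le_iff_le_comap]
  intro f hf
  rw [Ideal.mem_comap, orbitHom_comp' hφ]
  exact Ideal.mem_map_of_mem _ hf

variable [IsAlgClosed k] [CharZero k] [Algebra.FiniteType k A]

/-- The radical of a stable ideal is stable. -/
lemma isSubcomod_radical {I : Ideal R} (hI : IsSubcomod (k := k) (A := A) (I.restrictScalars k)) :
    IsSubcomod (k := k) (A := A) (I.radical.restrictScalars k) := by
  refine EqZMT28.isSubcomod_of_act_mem _ fun g v hv => ?_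
  obtain ⟨n, hn⟩ := hv
  let a : R →ₐ[k] R := (Algebra.TensorProduct.rid k k R).toAlgHom.comp
    ((Algebra.TensorProduct.map (AlgHom.id k R) g).comp (GLin.coactAlgHom k A R))
  have ha : ∀ r, a r = Comod.act k A R g r := fun r => rfl
  refine ⟨n, ?_⟩
  rw [← ha, ← map_pow, ha]
  exact OrbitH28.act_mem hI g hn

/-- The coaction on the quotient by a stable ideal. -/
noncomputable def quotCoactHom (I : Ideal R) (hI : IsSubcomod (k := k) (A := A) (I.restrictScalars k)) :
    R ⧸ I →ₐ[k] (R ⧸ I) ⊗[k] A :=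
  Ideal.Quotient.liftₐ I ((Algebra.TensorProduct.map (Ideal.Quotient.mkₐ k I) (AlgHom.id k A)).comp
    (GLin.coactAlgHom k A R)) fun a ha => by
      obtain ⟨y, hy⟩ := hI a ha
      show Algebra.TensorProduct.map (Ideal.Quotient.mkₐ k I) (AlgHom.id k A) (Comod.coact (k := k) (A := A) a) = 0
      rw [← hy]
      clear hy
      induction y with
      | zero => simp
      | add p q hp hq => rw [map_add, map_add, hp, hq, add_zero]
      | tmul m c =>
        rw [LinearMap.rTensor_tmul, Algebra.TensorProduct.map_tmul]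
        have : Ideal.Quotient.mkₐ k I ((I.restrictScalars k).subtype m) = 0 := Ideal.Quotient.eq_zero_iff_mem.2 m.2
        rw [this, TensorProduct.zero_tmul]

/-- The comodule structure on the quotient by a stable ideal. -/
@[reducible] noncomputable def idealQuotComod (I : Ideal R) (hI : IsSubcomod (k := k) (A := A) (I.restrictScalars k)) :
    Comod k A (R ⧸ I) :=
  HopfMod.quotComod (Ideal.Quotient.mkₐ k I).toLinearMap Ideal.Quotient.mk_surjective
    (quotCoactHom I hI).toLinearMap fun _ => rfl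

lemma idealQuot_isCoactAlg (I : Ideal R) (hI : IsSubcomod (k := k) (A := A) (I.restrictScalars k)) :
    @GLin.IsCoactAlg k _ A _ _ (R ⧸ I) _ _ (idealQuotComod I hI) :=
  @GLin.IsCoactAlg.mk k _ A _ _ (R ⧸ I) _ _ (idealQuotComod I hI) (map_one (quotCoactHom I hI))
    (map_mul (quotCoactHom I hI))

lemma isComodHom_mk (I : Ideal R) (hI : IsSubcomod (k := k) (A := A) (I.restrictScalars k)) :
    letI := idealQuotComod I hI
    Hoch.IsComodHom A (Ideal.Quotient.mkₐ k I).toLinearMap :=
  LinearMap.ext fun _ => rfl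

end Gen

variable {k : Type u} [Field k] [IsAlgClosed k] [CharZero k] {A : Type u} [CommRing A] [IsDomain A]
  [HopfAlgebra k A] [Algebra.FiniteType k A]
  {R : Type u} [CommRing R] [Algebra k R] [Algebra.FiniteType k R] [Comod k A R] [GLin.IsCoactAlg k A R]

omit [IsDomain A] in
lemma isSubcomod_orb (x : R →ₐ[k] k) :
    IsSubcomod (k := k) (A := A) (Subalgebra.toSubmodule (OrbitFlatH28.orb A x)) := by
  rintro _ ⟨r, rfl⟩
  show Comod.coact (k := k) (A := A) (GLin.orbitHom k A x r) ∈ _
  rw [show Comod.coact (k := k) (A := A) (GLin.orbitHom k A x r) =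
    (GLin.orbitHom k A x).toLinearMap.rTensor A (Comod.coact (k := k) (A := A) r) from
      comodHom_apply (isComodHom_orbitHom x) r]
  generalize Comod.coact (k := k) (A := A) r = t
  induction t with
  | zero => simp
  | add p q hp hq => rw [map_add]; exact add_mem hp hq
  | tmul n a => exact tmul_mem_tens (show GLin.orbitHom k A x n ∈ OrbitFlatH28.orb A x from ⟨n, rfl⟩) a

/-- The algebra of a closed orbit is smooth. -/
theorem smooth_orb {x : R →ₐ[k] k} (hx : GLin.IsClosedOrbit k A x) :
    Algebra.Smooth k (OrbitFlatH28.orb A x) := by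
  set B := OrbitFlatH28.orb A x
  haveI := OrbitFlatH28.faithfullyFlat_orb hx
  haveI : Algebra.FiniteType k B :=
    Algebra.FiniteType.of_surjective (GLin.orbitHom k A x).rangeRestrict (AlgHom.rangeRestrict_surjective _)
  haveI : IsNoetherianRing B := Algebra.FiniteType.isNoetherianRing k B
  haveI : Algebra.FinitePresentation k B := Algebra.FinitePresentation.of_finiteType.1 inferInstance
  haveI := EqZMT28.smooth_hopf k A
  refine ⟨Algebra.smoothLocus_eq_univ_iff.1 (Set.eq_univ_iff_forall.2 fun p => ?_), inferInstance⟩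
  obtain ⟨q, hq⟩ := PrimeSpectrum.comap_surjective_of_faithfullyFlat (A := B) (B := A) p
  have hq' : p.asIdeal = q.asIdeal.comap (algebraMap B A) := (congrArg PrimeSpectrum.asIdeal hq).symm
  haveI : q.asIdeal.LiesOver p.asIdeal := ⟨hq'⟩
  let f := Localization.localRingHom p.asIdeal q.asIdeal (algebraMap B A) hq'
  letI : Algebra (Localization.AtPrime p.asIdeal) (Localization.AtPrime q.asIdeal) := f.toAlgebra
  haveI : IsLocalHom (algebraMap (Localization.AtPrime p.asIdeal) (Localization.AtPrime q.asIdeal)) :=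
    inferInstanceAs (IsLocalHom f)
  haveI : Module.Flat (Localization.AtPrime p.asIdeal) (Localization.AtPrime q.asIdeal) := by
    have h := RingHom.Flat.localRingHom (f := algebraMap B A) (RingHom.flat_algebraMap_iff.2 inferInstance)
      q.asIdeal p.asIdeal hq'
    exact h
  haveI : IsRegularLocalRing (Localization.AtPrime q.asIdeal) :=
    (Groth.Agent.S2091.result q.asIdeal).1 (show q ∈ Algebra.smoothLocus k A by
      rw [Algebra.smoothLocus_eq_univ]; trivial)
  exact (Groth.Agent.S2091.result p.asIdeal).2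
    (Groth.Agent.RegLoc.isRegularLocalRing_of_flat (Localization.AtPrime p.asIdeal) (Localization.AtPrime q.asIdeal))

/-- Stabilisers near `x`, from an equivariant map over `X` to the orbit. -/
theorem nhd_of_strongly_etale {Q : Type u} [CommRing Q] [IsReduced Q] [Algebra k Q] [Algebra.FiniteType k Q]
    [Comod k A Q] [GLin.IsCoactAlg k A Q] [Algebra R Q] [IsScalarTower k R Q] [IsReduced R]
    (hG : IsLinearlyReductive k A) {x : R →ₐ[k] k} (hx : GLin.IsClosedOrbit k A x)
    (hequiv : ∀ r : R, Comod.coact (k := k) (A := A) (algebraMap R Q r) =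
      Algebra.TensorProduct.map (IsScalarTower.toAlgHom k R Q) (AlgHom.id k A) (Comod.coact (k := k) (A := A) r))
    {π : R →ₐ[k] Q} (hπ : Hoch.IsComodHom A π.toLinearMap) (p₀ : Q →ₐ[k] k)
    (het : Algebra.IsEtaleAt R (RingHom.ker p₀)) (hp₀θ : p₀.comp (IsScalarTower.toAlgHom k R Q) = x)
    (hinj : ∀ g : A →ₐ[k] k, GLin.actPt k g (p₀.comp (IsScalarTower.toAlgHom k R Q)) =
      p₀.comp (IsScalarTower.toAlgHom k R Q) → GLin.actPt k g p₀ = p₀)
    (hπker : ∀ r, GLin.orbitHom k A x r = 0 → π r = 0) :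
    ∃ f ∈ GLin.invariants k A R, x f ≠ 0 ∧
      ∀ x' : R →ₐ[k] k, x' f ≠ 0 →
        ∃ g : A →ₐ[k] k, GLin.stabIdeal k A x ≤ GLin.stabIdeal k A (GLin.actPt k g x') := by
  have hθ : Hoch.IsComodHom A (IsScalarTower.toAlgHom k R Q).toLinearMap := EtQuotH28.isComodHom_algebraMap hequiv
  -- invariants
  have hres : ∀ r ∈ GLin.invariants k A R, algebraMap R Q r ∈ GLin.invariants k A Q := fun r hr => by
    rw [GLin.mem_invariants_iff, hequiv, (GLin.mem_invariants_iff k A R r).1 hr, Algebra.TensorProduct.map_tmul]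
    rfl
  letI : Algebra (GLin.invariants k A R) (GLin.invariants k A Q) :=
    (((IsScalarTower.toAlgHom k R Q).comp (GLin.invariants k A R).val).codRestrict (GLin.invariants k A Q)
      fun r => hres r.1 r.2).toRingHom.toAlgebra
  haveI : IsScalarTower (GLin.invariants k A R) (GLin.invariants k A Q) Q :=
    IsScalarTower.of_algebraMap_eq fun r => rfl
  obtain ⟨f, g, hfg, hsurj, -, -, -, -, hloc⟩ := EtQuotH28.exists_strongly_etale (S := R) (R := Q)
    (S₀ := GLin.invariants k A R) (R₀ := GLin.invariants k A Q) hG hequiv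
    Subtype.val_injective (by ext r; simp) Subtype.val_injective (by ext r; simp) p₀ het (hp₀θ.symm ▸ hx) hinj
  set e : Q := algebraMap (GLin.invariants k A Q) Q (f * algebraMap (GLin.invariants k A R) (GLin.invariants k A Q) g)
    with he
  refine ⟨g.1, g.2, fun h0 => hfg ?_, fun x' hx' => ?_⟩
  · rw [he, map_mul, map_mul, show p₀ (algebraMap (GLin.invariants k A Q) Q (algebraMap _ _ g)) = x g.1 from
      AlgHom.congr_fun hp₀θ g.1, h0, mul_zero]
  haveI : (RingHom.ker x').IsMaximal := RingHom.ker_isMaximal_of_surjective _ fun c => ⟨algebraMap k R c, x'.commutes c⟩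
  obtain ⟨P, hP, heP, hPx⟩ := hsurj (RingHom.ker x') inferInstance hx'
  haveI : IsJacobsonRing Q := isJacobsonRing_of_finiteType (A := k)
  obtain ⟨M, hMmax, hPM, heM⟩ : ∃ M : Ideal Q, M.IsMaximal ∧ P ≤ M ∧ e ∉ M := by
    by_contra! h
    refine heP ?_
    rw [← (IsJacobsonRing.out inferInstance hP.isRadical : P.jacobson = P), Ideal.jacobson, Ideal.mem_sInf]
    rintro M ⟨hle, hM⟩
    exact h M hM hle
  haveI := hMmax
  obtain ⟨p, hp⟩ := FreeOrbH28.exists_point_of_isMaximal (k := k) M
  have hpθ : p.comp (IsScalarTower.toAlgHom k R Q) = x' := by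
    refine AlgHom.ext fun r => ?_
    have h1 : r - algebraMap k R (x' r) ∈ P.comap (algebraMap R Q) := by rw [hPx, RingHom.mem_ker]; simp
    have h2 : algebraMap R Q (r - algebraMap k R (x' r)) ∈ RingHom.ker p := hp.symm ▸ hPM h1
    rw [RingHom.mem_ker, map_sub, map_sub, ← IsScalarTower.algebraMap_apply, AlgHom.commutes, sub_eq_zero] at h2
    exact h2
  -- move its foot to x
  obtain ⟨h, hh⟩ := ((OrbitH28.closed_iff_isClosedOrbit x).2 hx) (p.comp π) fun r hr => by
    show p (π r) = 0
    rw [hπker r hr, map_zero]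
  refine ⟨(h⁻¹).ofConv, ?_⟩
  set p' := OrbitH28.mv h⁻¹ p with hp'
  have hp'π : p'.comp π = x := by rw [hp', mv_comp' hπ, ← hh, OrbitH28.mv_inv_mv]
  have hp'θ : p'.comp (IsScalarTower.toAlgHom k R Q) = GLin.actPt k (h⁻¹).ofConv x' := by
    rw [hp', mv_comp' hθ, hpθ]; rfl
  rw [← hp'π, ← hp'θ]
  refine (stabIdeal_le_of_comp hπ p').trans ?_
  -- stabilisers upstairs and downstairs agree
  set y' := p'.comp (IsScalarTower.toAlgHom k R Q) with hy'
  have hlin : ∀ z : R ⊗[GLin.invariants k A R] (GLin.invariants k A Q),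
      ∃ r : R, GLin.orbitHom k A p' (EtQuotH28.cmp R Q _ _ z) = GLin.orbitHom k A y' r ∧
        p' (EtQuotH28.cmp R Q _ _ z) = y' r := by
    intro z
    induction z with
    | zero => exact ⟨0, by simp⟩
    | add a b ha hb =>
      obtain ⟨r, hr, hr'⟩ := ha
      obtain ⟨r', hr₁, hr₁'⟩ := hb
      exact ⟨r + r', by rw [map_add, map_add, map_add, hr, hr₁], by rw [map_add, map_add, map_add, hr', hr₁']⟩
    | tmul r q =>
      refine ⟨p' (q : Q) • r, ?_, ?_⟩
      · rw [EtQuotH28.cmp_tmul, map_mul, hy', orbitHom_comp' hθ,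
          show algebraMap (GLin.invariants k A Q) Q q = (q : Q) from rfl,
          orbitHom_of_mem_invariants p' q.2, map_smul, Algebra.smul_def, AlgHom.comp_apply, mul_comm]
        rfl
      · rw [EtQuotH28.cmp_tmul, map_mul, hy', map_smul, smul_eq_mul, mul_comm]
        rfl
  have hpe : p e ≠ 0 := fun h0 => heM (hp ▸ h0)
  have hp'e : p' e = p e := by
    rw [hp', OrbitH28.mv_apply, show e = ((f * algebraMap _ _ g : GLin.invariants k A Q) : Q) from rfl,
      orbitHom_of_mem_invariants p (f * algebraMap _ _ g : GLin.invariants k A Q).2]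
    simp
  rw [GLin.stabIdeal, Ideal.map_le_iff_le_comap]
  intro a ha
  rw [RingHom.mem_ker] at ha
  obtain ⟨n, z, hz⟩ := hloc a
  obtain ⟨r, hr, hr'⟩ := hlin z
  rw [hz] at hr hr'
  have hrm : GLin.orbitHom k A y' r ∈ GLin.stabIdeal k A y' := by
    refine Ideal.mem_map_of_mem _ ?_
    rw [RingHom.mem_ker, ← hr', map_mul, ha, mul_zero]
  rw [← hr, map_mul, map_pow, show GLin.orbitHom k A p' e = algebraMap k A (p' e) from
    orbitHom_of_mem_invariants p' (f * algebraMap _ _ g : GLin.invariants k A Q).2] at hrm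
  show GLin.orbitHom k A p' a ∈ GLin.stabIdeal k A y'
  exact (Ideal.unit_mul_mem_iff_mem _ (((isUnit_iff_ne_zero.2 (hp'e.symm ▸ hpe)).map (algebraMap k A)).pow n)).1 hrm

set_option maxHeartbeats 2000000 in
theorem exists_invariant_nhd (hG : IsLinearlyReductive k A) [IsReduced R] (x : R →ₐ[k] k)
    (hx : GLin.IsClosedOrbit k A x) :
    ∃ f ∈ GLin.invariants k A R, x f ≠ 0 ∧
      ∀ x' : R →ₐ[k] k, x' f ≠ 0 →
        ∃ g : A →ₐ[k] k, GLin.stabIdeal k A x ≤ GLin.stabIdeal k A (GLin.actPt k g x') := by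
  -- the orbit
  let B := OrbitFlatH28.orb A x
  letI : Comod k A B := subComod (Subalgebra.toSubmodule B) (isSubcomod_orb x)
  haveI := EtQuotH28.regular_isCoactAlg (k := k) (A := A)
  haveI : GLin.IsCoactAlg k A B := EqZMT28.subalgebra_isCoactAlg B (isSubcomod_orb x)
  let ρ : R →ₐ[k] B := (GLin.orbitHom k A x).rangeRestrict
  have hρs : Function.Surjective ρ := AlgHom.rangeRestrict_surjective _
  have hρ : Hoch.IsComodHom A ρ.toLinearMap := by
    refine LinearMap.ext fun r => rTensor_subtype_injective (Subalgebra.toSubmodule B) ?_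
    simp only [LinearMap.comp_apply]
    refine (rTensor_coactRestrict (Subalgebra.toSubmodule B) (isSubcomod_orb x) (ρ r)).trans ?_
    erw [← LinearMap.rTensor_comp_apply]
    exact comodHom_apply (isComodHom_orbitHom x) r
  haveI := smooth_orb hx
  haveI : Algebra.FiniteType k B := Algebra.FiniteType.of_surjective ρ hρs
  let xB : B →ₐ[k] k := (Bialgebra.counitAlgHom k A).comp B.val
  have hxB : xB.comp ρ = x := AlgHom.ext fun r => counit_orbitHom x r
  -- the tube
  obtain ⟨s, hs, hst⟩ := exists_section (A := A) ρ hG hρ hρs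
  letI : Comod k A (B ⊗[k] R) := diagComod B R
  haveI := diag_isCoactAlg (k := k) (A := A) (B := B) (R := R)
  set I := (tubeIdeal ρ s).radical with hI
  have hIst := isSubcomod_radical hst
  let Q := (B ⊗[k] R) ⧸ I
  letI : Comod k A Q := idealQuotComod I hIst
  haveI : GLin.IsCoactAlg k A Q := idealQuot_isCoactAlg I hIst
  letI : Algebra R Q :=
    ((Ideal.Quotient.mk I).comp (Algebra.TensorProduct.includeRight : R →ₐ[k] B ⊗[k] R).toRingHom).toAlgebra
  haveI : IsScalarTower k R Q := IsScalarTower.of_algebraMap_eq fun c =>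
    (congrArg (Ideal.Quotient.mk I) ((Algebra.TensorProduct.includeRight : R →ₐ[k] B ⊗[k] R).commutes c)).symm
  haveI : IsReduced Q := (Ideal.isRadical_iff_quotient_reduced I).1 (Ideal.radical_isRadical _)
  haveI : Algebra.FiniteType k (B ⊗[k] R) := by
    haveI : Algebra.FiniteType B (B ⊗[k] R) := inferInstance
    exact Algebra.FiniteType.trans (S := B) inferInstance inferInstance
  haveI : Algebra.FiniteType k Q :=
    Algebra.FiniteType.of_surjective (Ideal.Quotient.mkₐ k I) Ideal.Quotient.mk_surjective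
  let π : R →ₐ[k] Q := (Ideal.Quotient.mkₐ k I).comp ((EtQuotH28.incL k B R).comp ρ)
  have hπ : Hoch.IsComodHom A π.toLinearMap := LinearMap.ext fun r => by
    have h2 : Hoch.IsComodHom A (EtQuotH28.incL k B R (k := k)).toLinearMap := EtQuotH28.isComodHom_incL _ _
    simp only [π, AlgHom.comp_toLinearMap, LinearMap.comp_apply, LinearMap.rTensor_comp]
    rw [comodHom_apply (isComodHom_mk I hIst), comodHom_apply h2, comodHom_apply hρ]
  have hθ : Hoch.IsComodHom A (IsScalarTower.toAlgHom k R Q).toLinearMap := LinearMap.ext fun r => by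
    have h2 : Hoch.IsComodHom A (EtQuotH28.incR k B R (k := k)).toLinearMap := EtQuotH28.isComodHom_incR _ _
    have e : (IsScalarTower.toAlgHom k R Q).toLinearMap =
        (Ideal.Quotient.mkₐ k I).toLinearMap ∘ₗ (EtQuotH28.incR k B R (k := k)).toLinearMap := rfl
    simp only [e, LinearMap.comp_apply, LinearMap.rTensor_comp]
    rw [comodHom_apply (isComodHom_mk I hIst), comodHom_apply h2]
  have hequiv : ∀ r : R, Comod.coact (k := k) (A := A) (algebraMap R Q r) =
      Algebra.TensorProduct.map (IsScalarTower.toAlgHom k R Q) (AlgHom.id k A) (Comod.coact (k := k) (A := A) r) :=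
    fun r => comodHom_apply hθ r
  -- the point
  haveI hpr : (RingHom.ker (graphPt ρ xB)).IsPrime := RingHom.ker_isPrime _
  have hIp : I ≤ RingHom.ker (graphPt ρ xB) := hpr.radical_le_iff.2 (tubeIdeal_le ρ xB s)
  let p₀ : Q →ₐ[k] k := Ideal.Quotient.liftₐ I (graphPt ρ xB) fun a ha => hIp ha
  have hp₀θ : p₀.comp (IsScalarTower.toAlgHom k R Q) = x := AlgHom.ext fun r => by
    show graphPt ρ xB ((1 : B) ⊗ₜ[k] r) = x r
    rw [graphPt_tmul, map_one, one_mul]
    exact AlgHom.congr_fun hxB r
  have hp₀π : p₀.comp π = x := AlgHom.ext fun r => by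
    show graphPt ρ xB (ρ r ⊗ₜ[k] (1 : R)) = x r
    rw [graphPt_tmul, map_one, map_one, mul_one]
    exact AlgHom.congr_fun hxB r
  have hker : RingHom.ker p₀ = (RingHom.ker (graphPt ρ xB)).map (Ideal.Quotient.mk I) := by
    ext z
    obtain ⟨z, rfl⟩ := Ideal.Quotient.mk_surjective z
    rw [← Ideal.mem_comap (f := Ideal.Quotient.mk I) (K := Ideal.map _ _),
      Ideal.comap_map_of_surjective' _ Ideal.Quotient.mk_surjective, Ideal.mk_ker, sup_eq_left.2 hIp]
    exact Iff.rfl
  haveI : (RingHom.ker p₀).IsPrime := RingHom.ker_isPrime _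
  have het : Algebra.IsEtaleAt R (RingHom.ker p₀) := isEtaleAt_radical ρ xB s hs (RingHom.ker p₀) hker
  have hinj : ∀ g : A →ₐ[k] k, GLin.actPt k g (p₀.comp (IsScalarTower.toAlgHom k R Q)) =
      p₀.comp (IsScalarTower.toAlgHom k R Q) → GLin.actPt k g p₀ = p₀ := by
    intro g hg
    rw [hp₀θ] at hg
    have h1 : (GLin.actPt k g p₀).comp (IsScalarTower.toAlgHom k R Q) = x := by
      show (OrbitH28.mv (toConv g) p₀).comp _ = x
      rw [mv_comp' hθ, hp₀θ]
      exact hg
    have h2 : (GLin.actPt k g p₀).comp π = x := by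
      show (OrbitH28.mv (toConv g) p₀).comp _ = x
      rw [mv_comp' hπ, hp₀π]
      exact hg
    have e : (GLin.actPt k g p₀).comp (Ideal.Quotient.mkₐ k I) = p₀.comp (Ideal.Quotient.mkₐ k I) := by
      refine Algebra.TensorProduct.ext (AlgHom.ext fun b => ?_) (AlgHom.ext fun r => ?_)
      · obtain ⟨r, rfl⟩ := hρs b
        exact (AlgHom.congr_fun h2 r).trans (AlgHom.congr_fun hp₀π r).symm
      · exact (AlgHom.congr_fun h1 r).trans (AlgHom.congr_fun hp₀θ r).symm
    refine AlgHom.ext fun z => ?_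
    obtain ⟨z, rfl⟩ := Ideal.Quotient.mk_surjective z
    exact AlgHom.congr_fun e z
  exact nhd_of_strongly_etale hG hx hequiv hπ p₀ het hp₀θ hinj (fun r hr => by
    have : ρ r = 0 := Subtype.ext hr
    simp [π, this])

end Groth.Agent.EqTub28
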